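import Mathlib

set_option autoImplicit false

/-!
Lifting `p`-subgroups and Sylow subgroups along surjective homomorphisms.
-/

namespace Cfsg.Agent.Lib.InvolChar

variable {G Q : Type*} [Group G] [Group Q] {p : ℕ} [Fact p.Prime]

theorem map_sylow_eq_top_of_surj [Finite G] {H : Type*} [Group H] {f : G →* H}
    (hf : Function.Surjective f) (hH : IsPGroup p H) (P : Sylow p G) :
    (P : Subgroup G).map f = ⊤ := by
  have : Finite H := Finite.of_surjective f hf
  have h1 : ((P : Subgroup G).map f).index ∣ (P : Subgroup G).index := Subgroup.index_map_dvd _ hf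
  obtain ⟨n, hn⟩ := hH.index ((P : Subgroup G).map f)
  rw [← Subgroup.index_eq_one]
  rw [hn] at h1 ⊢
  cases n with
  | zero => simp
  | succ n =>
    exfalso
    apply P.not_dvd_index
    exact dvd_trans (dvd_pow_self p (by omega)) h1

/-- Restriction of a surjection to the preimage of a subgroup. -/
theorem comap_restrict_surjective (π : G →* Q) (hπ : Function.Surjective π) (X : Subgroup Q) :
    Function.Surjective ((π.comp (X.comap π).subtype).codRestrict X (fun y => y.2)) := by
  intro x
  obtain ⟨g, hg⟩ := hπ (x : Q)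
  refine ⟨⟨g, ?_⟩, Subtype.ext hg⟩
  show π g ∈ X
  rw [hg]; exact x.2

/-- A `p`-subgroup of a quotient is the image of a `p`-subgroup. -/
theorem exists_pgroup_map_eq [Finite G] (π : G →* Q) (hπ : Function.Surjective π)
    (X : Subgroup Q) (hX : IsPGroup p X) :
    ∃ P : Subgroup G, IsPGroup p P ∧ P.map π = X := by
  obtain ⟨R⟩ : Nonempty (Sylow p (X.comap π)) := inferInstance
  have h1 := map_sylow_eq_top_of_surj (comap_restrict_surjective π hπ X) hX R
  refine ⟨(R : Subgroup (X.comap π)).map (X.comap π).subtype, R.isPGroup'.map _, ?_⟩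
  apply le_antisymm
  · rintro _ ⟨_, ⟨r, -, rfl⟩, rfl⟩
    exact r.2
  · intro x hx
    have hx' : (⟨x, hx⟩ : X) ∈ (R : Subgroup (X.comap π)).map
        ((π.comp (X.comap π).subtype).codRestrict X (fun y => y.2)) := by
      rw [h1]; trivial
    obtain ⟨r, hr, hrx⟩ := hx'
    exact ⟨r, ⟨r, hr, rfl⟩, congrArg Subtype.val hrx⟩

/-- A `p`-subgroup whose image lies in a Sylow subgroup `S` of the quotient lies in a Sylow subgroup
of `G` mapping onto `S`. -/
theorem exists_sylow_over [Finite G] (π : G →* Q) (hπ : Function.Surjective π)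
    (S : Sylow p Q) (P : Subgroup G) (hP : IsPGroup p P) (hPS : P.map π ≤ S) :
    ∃ T : Sylow p G, P ≤ T ∧ (T : Subgroup G).map π = S := by
  have : Finite Q := Finite.of_surjective π hπ
  let A : Subgroup G := (S : Subgroup Q).comap π
  have hPA : P ≤ A := fun x hx => hPS ⟨x, hx, rfl⟩
  have hP' : IsPGroup p (P.comap A.subtype) :=
    hP.comap_of_injective A.subtype A.subtype_injective
  obtain ⟨R, hR⟩ := hP'.exists_le_sylow
  have h1 := map_sylow_eq_top_of_surj (comap_restrict_surjective π hπ (S : Subgroup Q))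
    S.isPGroup' R
  have hR' : IsPGroup p ((R : Subgroup A).map A.subtype) := R.isPGroup'.map _
  obtain ⟨T, hT⟩ := hR'.exists_le_sylow
  refine ⟨T, ?_, ?_⟩
  · intro x hx
    exact hT ⟨⟨x, hPA hx⟩, hR hx, rfl⟩
  · have hle : (S : Subgroup Q) ≤ (T : Subgroup G).map π := by
      intro x hx
      have hx' : (⟨x, hx⟩ : (S : Subgroup Q)) ∈ (R : Subgroup A).map
          ((π.comp A.subtype).codRestrict (S : Subgroup Q) (fun y => y.2)) := by
        rw [h1]; trivial
      obtain ⟨r, hr, hrx⟩ := hx'
      exact ⟨r, hT ⟨r, hr, rfl⟩, congrArg Subtype.val hrx⟩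
    have hpg : IsPGroup p ((T : Subgroup G).map π) := T.isPGroup'.map _
    exact S.is_maximal' hpg hle

end Cfsg.Agent.Lib.InvolChar
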