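import Mathlib

set_option autoImplicit false

/-!
Transfer to `ℤ/2`: a parity version of Thompson's transfer lemma.
-/

namespace Cfsg.Agent.Lib.InvolChar

open MulAction

variable {G : Type*} [Group G]

/-- The parity homomorphism of a subgroup of index two. -/
noncomputable def parityHom {H : Type*} [Group H] (M : Subgroup H) (hM : M.index = 2) :
    H →* Multiplicative (ZMod 2) := by
  classical
  exact
  { toFun := fun s => if s ∈ M then 1 else Multiplicative.ofAdd 1
    map_one' := by simp [M.one_mem]
    map_mul' := by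
      intro a b
      have h := Subgroup.mul_mem_iff_of_index_two hM (a := a) (b := b)
      by_cases ha : a ∈ M <;> by_cases hb : b ∈ M <;> simp [ha, hb, h]
      rfl }

theorem parityHom_of_mem {H : Type*} [Group H] (M : Subgroup H) (hM : M.index = 2) {s : H}
    (hs : s ∈ M) : parityHom M hM s = 1 := by
  classical
  show (if s ∈ M then 1 else Multiplicative.ofAdd 1) = _
  rw [if_pos hs]

theorem parityHom_of_not_mem {H : Type*} [Group H] (M : Subgroup H) (hM : M.index = 2) {s : H}
    (hs : s ∉ M) : parityHom M hM s = Multiplicative.ofAdd 1 := by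
  classical
  show (if s ∈ M then 1 else Multiplicative.ofAdd 1) = _
  rw [if_neg hs]

theorem sum_minimalPeriod_eq_index (H : Subgroup G) [H.FiniteIndex] (g : G)
    [Fintype (Quotient (orbitRel (Subgroup.zpowers g) (G ⧸ H)))] :
    ∑ q : Quotient (orbitRel (Subgroup.zpowers g) (G ⧸ H)),
      Function.minimalPeriod (g • ·) q.out = H.index := by
  classical
  have : Finite (G ⧸ H) := Subgroup.finite_quotient_of_finiteIndex
  have e := Subgroup.quotientEquivSigmaZMod H g
  have hfin : Finite (Σ q : orbitRel.Quotient (Subgroup.zpowers g) (G ⧸ H),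
      ZMod (Function.minimalPeriod (g • ·) q.out)) := Finite.of_equiv _ e
  have : ∀ q : orbitRel.Quotient (Subgroup.zpowers g) (G ⧸ H),
      Finite (ZMod (Function.minimalPeriod (g • ·) q.out)) := fun q =>
    Finite.of_injective (fun x => (⟨q, x⟩ : Σ q : orbitRel.Quotient (Subgroup.zpowers g) (G ⧸ H),
      ZMod (Function.minimalPeriod (g • ·) q.out))) (fun a b h => by simpa using h)
  have h1 := Nat.card_congr e
  rw [Nat.card_sigma] at h1
  simp only [Nat.card_zmod] at h1
  rw [Subgroup.index_eq_card, h1]

/-- Parity version of the transfer lemma. Let `S` be a subgroup of odd index, and `M ≤ S` of index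
two. There is a homomorphism `τ` from `G` to `ℤ/2` such that `τ x ≠ 1` for every `x ∈ S` of order
`2 ^ n` having no conjugate in `M`, provided all elements of `S ∖ M` have order greater than
`2 ^ (n-1)`. -/
theorem exists_parity_transfer {S : Subgroup G} [S.FiniteIndex] (hodd : ¬ 2 ∣ S.index)
    {M : Subgroup G} (hM : M.relIndex S = 2) :
    ∃ τ : G →* Multiplicative (ZMod 2), ∀ x ∈ S, ∀ n : ℕ, 1 ≤ n → orderOf x = 2 ^ n →
      (∀ g : G, g * x * g⁻¹ ∉ M) → (∀ y ∈ S, y ∉ M → 2 ^ (n - 1) < orderOf y) → τ x ≠ 1 := by
  classical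
  have hM' : (M.subgroupOf S).index = 2 := hM
  refine ⟨(parityHom (M.subgroupOf S) hM').transfer, ?_⟩
  intro x hxS n hn hxn hconj hord
  have : Finite (G ⧸ S) := Subgroup.finite_quotient_of_finiteIndex
  have : Fintype (Quotient (orbitRel (Subgroup.zpowers x) (G ⧸ S))) := Fintype.ofFinite _
  rw [MonoidHom.transfer_eq_prod_quotient_orbitRel_zpowers_quot]
  have hterm : ∀ q : Quotient (orbitRel (Subgroup.zpowers x) (G ⧸ S)),
      parityHom (M.subgroupOf S) hM'
        ⟨q.out.out⁻¹ * x ^ Function.minimalPeriod (x • ·) q.out * q.out.out,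
          QuotientGroup.out_conj_pow_minimalPeriod_mem S x q.out⟩ =
      Multiplicative.ofAdd ((Function.minimalPeriod (x • ·) q.out : ℕ) : ZMod 2) := by
    intro q
    set l := Function.minimalPeriod (x • ·) q.out with hl
    have hdvd : l ∣ 2 ^ n := by
      rw [← hxn]
      apply Function.IsPeriodicPt.minimalPeriod_dvd
      show (x • ·)^[orderOf x] q.out = q.out
      rw [smul_iterate, pow_orderOf_eq_one]
      simp
    obtain ⟨e, he, hle⟩ := (Nat.dvd_prime_pow Nat.prime_two).mp hdvd
    rcases Nat.eq_zero_or_pos e with h0 | hpos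
    · subst h0
      have hl1 : l = 1 := by simpa using hle
      rw [parityHom_of_not_mem]
      · show Multiplicative.ofAdd 1 = Multiplicative.ofAdd ((l : ℕ) : ZMod 2)
        rw [hl1]; rfl
      · intro hmem
        have h2 : q.out.out⁻¹ * x ^ l * q.out.out ∈ M := hmem
        rw [hl1, pow_one] at h2
        apply hconj q.out.out⁻¹
        simpa using h2
    · have hle2 : (l : ZMod 2) = 0 := by
        rw [hle]; push_cast
        have : (2 : ZMod 2) = 0 := by decide
        rw [this, zero_pow (by omega)]
      rw [hle2, parityHom_of_mem]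
      · rfl
      · show q.out.out⁻¹ * x ^ l * q.out.out ∈ M
        by_contra hnot
        have h3 : 2 ^ (n - 1) < orderOf (q.out.out⁻¹ * x ^ l * q.out.out) :=
          hord _ (QuotientGroup.out_conj_pow_minimalPeriod_mem S x q.out) hnot
        have h4 : orderOf (q.out.out⁻¹ * x ^ l * q.out.out) ≤ 2 ^ (n - 1) := by
          have h5 : (q.out.out⁻¹ * x ^ l * q.out.out) ^ (2 ^ (n - 1)) = 1 := by
            have : q.out.out⁻¹ * x ^ l * q.out.out = q.out.out⁻¹ * x ^ l * (q.out.out⁻¹)⁻¹ := by
              simp
            rw [this, conj_pow, ← pow_mul]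
            have h6 : l * 2 ^ (n - 1) = 2 ^ n * (2 ^ e / 2) := by
              rw [hle]
              obtain ⟨e', rfl⟩ : ∃ e', e = e' + 1 := ⟨e - 1, by omega⟩
              obtain ⟨n', rfl⟩ : ∃ n', n = n' + 1 := ⟨n - 1, by omega⟩
              simp only [Nat.add_sub_cancel, pow_succ]
              have : 2 ^ e' * 2 / 2 = 2 ^ e' := by simp
              rw [this]; ring
            rw [h6, pow_mul, ← hxn, pow_orderOf_eq_one, one_pow]
            simp
          exact orderOf_le_of_pow_eq_one (by positivity) h5
        omega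
  rw [Finset.prod_congr rfl (fun q _ => hterm q), ← ofAdd_sum, ← Nat.cast_sum,
    sum_minimalPeriod_eq_index]
  intro h
  have h2 : (S.index : ZMod 2) = 0 := Multiplicative.ofAdd.injective h
  exact hodd ((ZMod.natCast_eq_zero_iff _ _).mp h2)

end Cfsg.Agent.Lib.InvolChar
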